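import Cfsg.Agent.Lib.GTwoTwoLocal.Generic
import Cfsg.Agent.Lib.Transfer.Basic

/-!
The centraliser of an element `d` of order three of `C(t)`: its odd core, the decomposition and the
order of the core from the fixed points of the four group.
-/

set_option autoImplicit false
set_option linter.style.haveILetI false

namespace CfsgLib.GTwoTwoLocal

open Cfsg

variable {G : Type*} [Group G] [Finite G]

/-- The odd core of the centraliser of `d`. -/
def coreCent (d : G) : Subgroup G :=
  (oddCore ↥(Subgroup.centralizer ({d} : Set G))).map (Subgroup.centralizer ({d} : Set G)).subtype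

omit [Finite G] in
theorem coreCent_le (d : G) : coreCent d ≤ Subgroup.centralizer ({d} : Set G) :=
  Subgroup.map_subtype_le _

theorem odd_coreCent (d : G) : Odd (Nat.card (coreCent d)) := by
  haveI : Fact (Nat.Prime 2) := ⟨Nat.prime_two⟩
  rw [coreCent, Subgroup.card_map_of_injective (Subgroup.centralizer ({d} : Set G)).subtype_injective,
    ← Nat.not_even_iff_odd, even_iff_two_dvd]
  exact CfsgLib.Transfer.not_dvd_card_pPrimeCore

/-- An element conjugating `d` into `d` or `d⁻¹` normalises the core. -/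
theorem mem_normalizer_coreCent {d g : G} (hg : g * d * g⁻¹ = d ∨ g * d * g⁻¹ = d⁻¹) :
    g ∈ Subgroup.normalizer (coreCent d : Set G) := by
  set C := Subgroup.centralizer ({d} : Set G)
  have hC : ∀ x ∈ C, g * x * g⁻¹ ∈ C := by
    intro x hx
    have hxd : Commute x d := Subgroup.mem_centralizer_singleton_iff.1 hx
    have h : Commute (g * x * g⁻¹) (g * d * g⁻¹) := by
      show g * x * g⁻¹ * (g * d * g⁻¹) = g * d * g⁻¹ * (g * x * g⁻¹)
      calc g * x * g⁻¹ * (g * d * g⁻¹) = g * (x * d) * g⁻¹ := by group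
        _ = g * (d * x) * g⁻¹ := by rw [hxd.eq]
        _ = _ := by group
    refine Subgroup.mem_centralizer_singleton_iff.2 ?_
    rcases hg with e | e <;> rw [e] at h
    exacts [h, Commute.inv_right_iff.1 h]
  let φ : ↥C →* ↥C :=
    ((MulAut.conj g).toMonoidHom.comp C.subtype).codRestrict C fun x => hC x x.2
  have hφ : Function.Bijective φ := Finite.injective_iff_bijective.1 fun x y h =>
    Subtype.ext ((MulAut.conj g).injective (congrArg Subtype.val h))
  have hch := Subgroup.characteristic_iff_map_eq.1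
    (inferInstance : (oddCore ↥C).Characteristic) (MulEquiv.ofBijective φ hφ)
  rw [Subgroup.mem_normalizer_iff_map_conj_eq]
  conv_rhs => rw [coreCent, ← hch, Subgroup.map_map]
  rw [coreCent, Subgroup.map_map]
  rfl

theorem conj_mem_coreCent {d g x : G} (hg : g * d * g⁻¹ = d ∨ g * d * g⁻¹ = d⁻¹) (hx : x ∈ coreCent d) :
    g * x * g⁻¹ ∈ coreCent d :=
  (Subgroup.mem_normalizer_iff.1 (mem_normalizer_coreCent hg) x).1 hx

/-- A subgroup of odd order, central or not, normal in `C(d)` lies in the core. -/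
theorem le_coreCent {d : G} {K : Subgroup G} (hK : K ≤ Subgroup.centralizer ({d} : Set G))
    [(K.subgroupOf (Subgroup.centralizer ({d} : Set G))).Normal] (hodd : Odd (Nat.card K)) :
    K ≤ coreCent d := by
  haveI : Fact (Nat.Prime 2) := ⟨Nat.prime_two⟩
  intro x hx
  refine ⟨⟨x, hK hx⟩, ?_, rfl⟩
  refine CfsgLib.Transfer.le_pPrimeCore (p := 2) (N := K.subgroupOf _) inferInstance ?_ (Subgroup.mem_subgroupOf.2 hx)
  rw [Nat.card_congr (Subgroup.subgroupOfEquivOfLe hK).toEquiv]
  exact Nat.coprime_two_right.2 hodd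

theorem mem_coreCent_self {d : G} (hd : d ^ 3 = 1) : d ∈ coreCent d := by
  have hle : Subgroup.zpowers d ≤ Subgroup.centralizer ({d} : Set G) :=
    Subgroup.zpowers_le.2 (Subgroup.mem_centralizer_singleton_iff.2 rfl)
  haveI : ((Subgroup.zpowers d).subgroupOf (Subgroup.centralizer ({d} : Set G))).Normal := by
    refine ⟨fun x hx c => ?_⟩
    obtain ⟨k, hk⟩ := Subgroup.mem_zpowers_iff.1 (Subgroup.mem_subgroupOf.1 hx)
    rw [Subgroup.mem_subgroupOf]
    have hc : Commute (c : G) (x : G) :=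
      hk ▸ Commute.zpow_right (Subgroup.mem_centralizer_singleton_iff.1 c.2 : Commute (c : G) d) k
    rw [Subgroup.coe_mul, Subgroup.coe_mul, Subgroup.coe_inv, hc.eq, mul_inv_cancel_right]
    exact Subgroup.mem_subgroupOf.1 hx
  refine le_coreCent hle ?_ (Subgroup.mem_zpowers d)
  rw [Nat.card_zpowers]
  exact (show Odd 3 by decide).of_dvd_nat (orderOf_dvd_of_pow_eq_one hd)

variable {t d : G}

/-- `C(d) = O(C(d)) C(t,d)` when `t` is the only involution of `C(t,d)`. -/
theorem exists_coreCent_mul (ht : t * t = 1) (hne : t ≠ 1) (htd : Commute t d)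
    (huniq : ∀ s, Commute s d → Commute s t → s * s = 1 → s = 1 ∨ s = t) {g : G} (hg : Commute g d) :
    ∃ o ∈ coreCent d, ∃ c, Commute c d ∧ Commute c t ∧ g = o * c := by
  obtain ⟨o, ho, c, hc, e⟩ := exists_core_mul_cent_of_unique (X := Subgroup.centralizer ({d} : Set G))
    ht hne (Subgroup.mem_centralizer_singleton_iff.2 htd.eq)
    (fun s hs => huniq s (Subgroup.mem_centralizer_singleton_iff.1 hs))
    (Subgroup.mem_centralizer_singleton_iff.2 hg.eq)
  exact ⟨o, ho, c, Subgroup.mem_centralizer_singleton_iff.1 (Subgroup.mem_inf.1 hc).1,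
    Subgroup.mem_centralizer_singleton_iff.1 (Subgroup.mem_inf.1 hc).2, e⟩

/-- The fixed points of `t` on the core form `⟨d⟩`. -/
theorem coreCent_inf_cent (hd : d ^ 3 = 1) (htd : Commute t d)
    (hnorm : ∀ K : Subgroup G, K ≤ Subgroup.centralizer ({t, d} : Set G) → Odd (Nat.card K) →
      (∀ c ∈ Subgroup.centralizer ({t, d} : Set G), ∀ k ∈ K, c * k * c⁻¹ ∈ K) → K ≤ Subgroup.zpowers d) :
    coreCent d ⊓ Subgroup.centralizer ({t} : Set G) = Subgroup.zpowers d := by
  refine le_antisymm (hnorm _ (fun x hx => ?_) ?_ fun c hc k hk => ?_) (Subgroup.zpowers_le.2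
    ⟨mem_coreCent_self hd, Subgroup.mem_centralizer_singleton_iff.2 htd.symm.eq⟩)
  · rw [Subgroup.mem_centralizer_iff]
    simp only [Set.mem_insert_iff, Set.mem_singleton_iff, forall_eq_or_imp, forall_eq]
    exact ⟨(Subgroup.mem_centralizer_singleton_iff.1 hx.2).symm,
      (Subgroup.mem_centralizer_singleton_iff.1 (coreCent_le d hx.1)).symm⟩
  · exact (odd_coreCent d).of_dvd_nat (Subgroup.card_dvd_of_le inf_le_left)
  · rw [Subgroup.mem_centralizer_iff] at hc
    simp only [Set.mem_insert_iff, Set.mem_singleton_iff, forall_eq_or_imp, forall_eq] at hc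
    have hct : c ∈ Subgroup.centralizer ({t} : Set G) :=
      Subgroup.mem_centralizer_singleton_iff.2 hc.1.symm
    exact ⟨conj_mem_coreCent (Or.inl (by rw [← hc.2, mul_inv_cancel_right])) hk.1,
      (Subgroup.centralizer ({t} : Set G)).mul_mem
        ((Subgroup.centralizer ({t} : Set G)).mul_mem hct hk.2)
        ((Subgroup.centralizer ({t} : Set G)).inv_mem hct)⟩

/-- The order of the core. -/
theorem card_coreCent {u q : G} (ht : t * t = 1) (hu : u * u = 1) (htu : Commute t u) (hd : d ^ 3 = 1)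
    (hd1 : d ≠ 1) (htd : Commute t d) (hud : u * d * u⁻¹ = d⁻¹)
    (hfix : coreCent d ⊓ Subgroup.centralizer ({t} : Set G) = Subgroup.zpowers d)
    (hq : q * d * q⁻¹ = d ∨ q * d * q⁻¹ = d⁻¹) (hqu : q * u * q⁻¹ = t * u) :
    Nat.card (coreCent d) = 3 * Nat.card ↥(coreCent d ⊓ Subgroup.centralizer ({u} : Set G)) ^ 2 := by
  have hnt : ∀ x ∈ coreCent d, t * x * t⁻¹ ∈ coreCent d := fun x hx =>
    conj_mem_coreCent (Or.inl (by rw [htd.eq, mul_inv_cancel_right])) hx
  have hnu : ∀ x ∈ coreCent d, u * x * u⁻¹ ∈ coreCent d := fun x hx => conj_mem_coreCent (Or.inr hud) hx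
  have hpair : coreCent d ⊓ Subgroup.centralizer ({t, u} : Set G) = ⊥ := by
    rw [eq_bot_iff]
    intro x hx
    have hxd : x ∈ Subgroup.zpowers d := hfix ▸ card_cent_pair_le _ t u hx
    obtain ⟨k, rfl⟩ := Subgroup.mem_zpowers_iff.1 hxd
    have hxu : u * d ^ k = d ^ k * u := Subgroup.mem_centralizer_iff.1 hx.2 u (by simp)
    have h1 : u * d ^ k * u⁻¹ = d ^ k := by rw [hxu, mul_inv_cancel_right]
    have h2 : u * d ^ k * u⁻¹ = (d ^ k)⁻¹ := by
      rw [← conj_zpow, hud, inv_zpow]
    have h3 : (d ^ k) ^ 2 = 1 := by rw [pow_two, ← eq_inv_iff_mul_eq_one]; exact h1.symm.trans h2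
    have h4 : (d ^ k) ^ 3 = 1 := by
      rw [← zpow_natCast, ← zpow_mul, mul_comm, zpow_mul, zpow_natCast, hd, one_zpow]
    rw [Subgroup.mem_bot]
    rwa [pow_succ, h3, one_mul] at h4
  have h := card_of_four (odd_coreCent d) ht hu htu hnt hnu hpair
  rw [hfix, Nat.card_zpowers, orderOf_eq_prime hd hd1,
    ← card_cent_conj (mem_normalizer_coreCent hq) hqu] at h
  rw [h]
  ring

/-- A bound on the fixed points of `u` bounds the core. -/
theorem card_coreCent_cases {n m : ℕ} (h : n = 3 * m ^ 2) (hm : m ∣ 9) : n = 3 ∨ n = 27 ∨ n = 243 := by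
  have hm' : m ≤ 9 := Nat.le_of_dvd (by norm_num) hm
  interval_cases m <;> omega

end CfsgLib.GTwoTwoLocal
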