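import Mathlib.NumberTheory.Divisors
import Mathlib.Tactic

/-!
The arithmetic of the order equation `h (a - u)² = 2⁷ 3⁴ a (a + 1)` with `u² + (u + 1)² < 576`,
`h` odd, `h ≡ 1 (mod 9)` and `7 ∣ h`: only `8911` and `11935` remain.
-/

set_option autoImplicit false

namespace CfsgLib.GTwoTwoLocal

/-- One candidate for the difference `D = a - u`. -/
def okD (u D : ℤ) : Bool :=
  let num := 10368 * (u + D) * (u + D + 1)
  let h := num / (D * D)
  (num % (D * D) != 0) || (h % 2 == 0) || (h % 9 != 1) || (h % 7 != 0) || (u + D == 0) || (u + D + 1 == 0) ||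
    (h == 8911) || (h == 11935)

/-- The number whose divisors bound the cofactor of `D`. -/
def cof (u : ℤ) : ℕ := if u * (u + 1) = 0 then 1 else (u * (u + 1)).natAbs

/-- The finite table. -/
theorem table : ∀ n : Fin 34, ∀ i : Fin 8, ∀ j : Fin 5, ∀ k ∈ (cof ((n : ℕ) - 17 : ℤ)).divisors,
    okD ((n : ℕ) - 17 : ℤ) (2 ^ (i : ℕ) * 3 ^ (j : ℕ) * k : ℕ) = true ∧
      okD ((n : ℕ) - 17 : ℤ) (-((2 ^ (i : ℕ) * 3 ^ (j : ℕ) * k : ℕ) : ℤ)) = true := by
  decide +kernel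

/-- The two possible indices. -/
theorem index_cases (a u : ℤ) (h : ℕ) (ha : a ≠ 0) (ha' : a ≠ -1) (hu : u ^ 2 + (u + 1) ^ 2 < 576)
    (hodd : h % 2 = 1) (h9 : h % 9 = 1) (h7 : h % 7 = 0)
    (eq : (h : ℤ) * (a - u) ^ 2 = 10368 * a * (a + 1)) : h = 8911 ∨ h = 11935 := by
  obtain ⟨hu1, hu2⟩ : -17 ≤ u ∧ u ≤ 16 := ⟨by nlinarith, by nlinarith⟩
  obtain ⟨n, hn, rfl⟩ : ∃ n : ℕ, n < 34 ∧ u = (n : ℤ) - 17 := ⟨(u + 17).toNat, by omega, by omega⟩
  set u : ℤ := (n : ℤ) - 17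
  obtain ⟨D, rfl⟩ : ∃ D, a = u + D := ⟨a - u, by ring⟩
  rw [add_sub_cancel_left] at eq
  have hD : D ≠ 0 := by
    rintro rfl
    rcases mul_eq_zero.1 (show (u + 0) * (u + 0 + 1) = 0 by nlinarith [eq]) with h0 | h0
    · exact ha h0
    · exact ha' (by omega)
  have hdiv : D.natAbs ∣ 10368 * cof u := by
    unfold cof
    split_ifs with hz
    · suffices hd : D ∣ (10368 : ℤ) by simpa using Int.natAbs_dvd_natAbs.2 hd
      have e : (h : ℤ) * D * D = (10368 * (D + 2 * u + 1)) * D := by linear_combination eq + 10368 * hz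
      have e2 := mul_right_cancel₀ hD e
      rcases mul_eq_zero.1 hz with h0 | h0
      · exact ⟨(h : ℤ) - 10368, by rw [h0] at e2; linear_combination -e2⟩
      · exact ⟨10368 - (h : ℤ), by
          have hu : u = -1 := by omega
          rw [hu] at e2; linear_combination e2⟩
    · have e : D ∣ 10368 * (u * (u + 1)) := ⟨(h : ℤ) * D - 10368 * (D + 2 * u + 1), by linear_combination -eq⟩
      have := Int.natAbs_dvd_natAbs.2 e
      rwa [Int.natAbs_mul] at this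
  obtain ⟨x, k, hx, hk, hxk⟩ := (Nat.dvd_mul).1 hdiv
  obtain ⟨x2, x3, hx2, hx3, hx23⟩ := (Nat.dvd_mul).1 (show x ∣ 2 ^ 7 * 3 ^ 4 from hx)
  obtain ⟨i, hi, rfl⟩ := (Nat.dvd_prime_pow Nat.prime_two).1 hx2
  obtain ⟨j, hj, rfl⟩ := (Nat.dvd_prime_pow Nat.prime_three).1 hx3
  have hcof : cof u ≠ 0 := by unfold cof; split_ifs with hz <;> [norm_num; simpa using hz]
  have ht := table ⟨n, hn⟩ ⟨i, by omega⟩ ⟨j, by omega⟩ k (Nat.mem_divisors.2 ⟨hk, hcof⟩)
  simp only at ht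
  rw [hx23, hxk] at ht
  have hok : okD u D = true := by
    rcases Int.natAbs_eq D with e | e <;> rw [e]
    exacts [ht.1, ht.2]
  have hq : (10368 : ℤ) * (u + D) * (u + D + 1) = h * (D * D) := by linear_combination -eq
  have hDD : D * D ≠ 0 := mul_ne_zero hD hD
  simp only [okD, hq, Int.mul_emod_left, Int.mul_ediv_cancel _ hDD] at hok
  have e2 : ((h : ℤ) % 2 = 1) := by omega
  have e9 : ((h : ℤ) % 9 = 1) := by omega
  have e7 : ((h : ℤ) % 7 = 0) := by omega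
  simp [e2, e9, e7] at hok
  rcases hok with ((h0 | h0) | h0) | h0
  · exact absurd h0 ha
  · exact absurd (by omega : u + D = -1) ha'
  · exact Or.inl (by omega)
  · exact Or.inr (by omega)

end CfsgLib.GTwoTwoLocal
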