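import Mathlib.GroupTheory.Sylow
import Mathlib.GroupTheory.SpecificGroups.Cyclic
import Mathlib.GroupTheory.Subgroup.Centralizer
import Mathlib.NumberTheory.Divisors
import Mathlib.Tactic

/-!
A group of order `576 h` in which the centralisers of the elements of orders two and three have order
dividing `576` has `h` different from `8911` and `11935`: count the Sylow subgroups for `67` and `11`.
-/

set_option autoImplicit false
set_option linter.style.haveILetI false

namespace CfsgLib.GTwoTwoLocal

theorem no_count_67 : ∀ k ∈ (798 : ℕ).divisors, 96 * k % 67 ≠ 1 := by decide +kernel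

theorem no_count_11 : ∀ k ∈ (2170 : ℕ).divisors, 288 * k % 11 ≠ 1 := by decide +kernel

variable {G : Type*} [Group G] [Finite G]

/-- The order of a normaliser of a subgroup of prime order `p` divides `h (p - 1)`. -/
theorem card_normalizer_prime {h : ℕ} (hG : Nat.card G = 576 * h)
    (hcent : ∀ x : G, x ≠ 1 → (x ^ 2 = 1 ∨ x ^ 3 = 1) → Nat.card (Subgroup.centralizer {x}) ∣ 576)
    {p : ℕ} [hp : Fact p.Prime] (hp576 : ¬ p ∣ 576) {P : Subgroup G} (hP : Nat.card P = p) :
    Nat.card (Subgroup.normalizer (P : Set G)) ∣ h * (p - 1) := by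
  haveI : IsCyclic P := isCyclic_of_prime_card hP
  have hcop : ∀ q : ℕ, q.Prime → q = 2 ∨ q = 3 → ¬ q ∣ Nat.card (Subgroup.centralizer (P : Set G)) := by
    intro q hq hq23 hd
    haveI : Fact q.Prime := ⟨hq⟩
    obtain ⟨x, hx⟩ := exists_prime_orderOf_dvd_card' q hd
    have hx1 : (x : G) ≠ 1 := fun e => hq.one_lt.ne (by rw [← hx, ← Subgroup.orderOf_coe, e, orderOf_one])
    have hxq : (x : G) ^ 2 = 1 ∨ (x : G) ^ 3 = 1 := by
      have h1 : (x : G) ^ q = 1 := by rw [← hx, ← Subgroup.orderOf_coe]; exact pow_orderOf_eq_one _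
      rcases hq23 with rfl | rfl
      exacts [Or.inl h1, Or.inr h1]
    have hle : P ≤ Subgroup.centralizer {(x : G)} := fun g hg =>
      Subgroup.mem_centralizer_singleton_iff.2 (Subgroup.mem_centralizer_iff.1 x.2 g hg)
    exact hp576 (hP ▸ (Subgroup.card_dvd_of_le hle).trans (hcent _ hx1 hxq))
  have hc : Nat.card (Subgroup.centralizer (P : Set G)) ∣ h := by
    have hd : Nat.card (Subgroup.centralizer (P : Set G)) ∣ 576 * h := hG ▸ Subgroup.card_subgroup_dvd_card _
    have c2 := (Nat.prime_two.coprime_iff_not_dvd).2 (hcop 2 Nat.prime_two (Or.inl rfl))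
    have c3 := (Nat.prime_three.coprime_iff_not_dvd).2 (hcop 3 Nat.prime_three (Or.inr rfl))
    exact Nat.Coprime.dvd_of_dvd_mul_left ((c2.symm.pow_right 6).mul_right (c3.symm.pow_right 2)) hd
  have hi := (P.normalizerMonoidHom).ker.card_mul_index
  rw [← hi, Subgroup.index_ker, Subgroup.normalizerMonoidHom_ker,
    Nat.card_congr (Subgroup.subgroupOfEquivOfLe (Subgroup.centralizer_le_normalizer _)).toEquiv]
  refine mul_dvd_mul hc ?_
  have := Subgroup.card_subgroup_dvd_card (P.normalizerMonoidHom).range
  rwa [IsCyclic.card_mulAut, hP, Nat.totient_prime hp.out] at this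

/-- The index is neither `8911` nor `11935`. -/
theorem index_ne {h : ℕ} (hG : Nat.card G = 576 * h)
    (hcent : ∀ x : G, x ≠ 1 → (x ^ 2 = 1 ∨ x ^ 3 = 1) → Nat.card (Subgroup.centralizer {x}) ∣ 576) :
    h ≠ 8911 ∧ h ≠ 11935 := by
  have key : ∀ (p r c g : ℕ), p.Prime → ¬ p ∣ 576 → h = r * p → ¬ p ∣ r → g = Nat.gcd (h * (p - 1)) (576 * h) →
      576 * h = c * g → (∀ k ∈ g.divisors, c * k % p ≠ 1) → False := by
    intro p r c g hp hp576 hh hpr hg hcg hno
    haveI : Fact p.Prime := ⟨hp⟩
    let P : Sylow p G := default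
    have hPc : Nat.card (P : Subgroup G) = p := by
      rw [Sylow.card_eq_multiplicity, hG]
      have hf : (576 * h).factorization p = 1 := by
        rw [hh, ← mul_assoc, Nat.factorization_mul (mul_ne_zero (by norm_num : (576 : ℕ) ≠ 0) (fun e : r = 0 => hpr (by rw [e]; exact dvd_zero p)))
          hp.ne_zero, Finsupp.add_apply, hp.factorization_self, Nat.factorization_eq_zero_of_not_dvd]
        intro hd
        rcases hp.dvd_mul.1 hd with h' | h'
        exacts [hp576 h', hpr h']
      rw [hf, pow_one]
    have hN : Nat.card (Subgroup.normalizer (P : Set G)) ∣ g := by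
      rw [hg]
      exact Nat.dvd_gcd (card_normalizer_prime hG hcent hp576 hPc) (hG ▸ Subgroup.card_subgroup_dvd_card _)
    obtain ⟨k, hk⟩ := hN
    have hn : Nat.card (Sylow p G) = c * k := by
      rw [Sylow.card_eq_index_normalizer]
      have := (Subgroup.normalizer ((P : Subgroup G) : Set G)).card_mul_index
      rw [hG, hcg, hk, mul_comm c, mul_assoc, mul_comm k c] at this
      exact Nat.eq_of_mul_eq_mul_left Nat.card_pos this
    have hmod := card_sylow_modEq_one p G
    rw [hn, Nat.ModEq, Nat.one_mod_eq_one.2 hp.ne_one] at hmod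
    refine hno k (Nat.mem_divisors.2 ⟨Dvd.intro_left _ hk.symm, fun e => ?_⟩) hmod
    rw [e, mul_zero] at hcg
    have : h = 0 := by omega
    rw [this] at hG
    exact Nat.card_pos.ne' hG
  constructor
  · rintro rfl
    exact key 67 133 96 53466 (by norm_num) (by norm_num) rfl (by norm_num) (by norm_num) (by norm_num)
      fun k hk => by
        intro hk'
        have : k ∈ (798 : ℕ).divisors ∨ 67 ∣ k := by
          rw [Nat.mem_divisors] at hk ⊢
          by_cases h67 : 67 ∣ k
          · exact Or.inr h67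
          · exact Or.inl ⟨(((Nat.Prime.coprime_iff_not_dvd (by norm_num : Nat.Prime 67)).2 h67).symm).dvd_of_dvd_mul_left
              (show k ∣ 67 * 798 from hk.1), by norm_num⟩
        rcases this with h' | ⟨j, rfl⟩
        · exact no_count_67 k h' hk'
        · omega
  · rintro rfl
    exact key 11 1085 288 23870 (by norm_num) (by norm_num) rfl (by norm_num) (by norm_num) (by norm_num)
      fun k hk => by
        intro hk'
        rw [Nat.mem_divisors] at hk
        by_cases h11 : 11 ∣ k
        · obtain ⟨j, rfl⟩ := h11; omega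
        · exact no_count_11 k (Nat.mem_divisors.2 ⟨(((Nat.Prime.coprime_iff_not_dvd (by norm_num : Nat.Prime 11)).2
            h11).symm).dvd_of_dvd_mul_left (show k ∣ 11 * 2170 from hk.1), by norm_num⟩) hk'

end CfsgLib.GTwoTwoLocal
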