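import Cfsg.Agent.Lib.NineTI.Isolated
import Cfsg.Agent.Lib.NineTI.FreeSum
import Cfsg.Agent.Lib.Char.Table
import Cfsg.Agent.Lib.Char.StrongRealAverage
import Cfsg.Agent.Lib.GTwoTwoLocal.Arith
import Cfsg.Agent.Lib.GTwoTwoLocal.Exclude

/-!
One class of involutions with centraliser `H` of order 576 which is strongly embedded for the elements
whose image under `H → S₃` is a three-cycle: the virtual character pulled back from `S₃` has norm three, so
`[G : H] (a - u)² = 2⁷ 3⁴ a (a + 1)`; this contradicts the congruences of `[G : H]`.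
-/

set_option autoImplicit false
set_option linter.style.haveILetI false

namespace CfsgLib.GTwoTwoLocal

open Cfsg CfsgLib.Char
open scoped ComplexConjugate

/-- The image is a three-cycle. -/
def Three (σ : Equiv.Perm (Fin 3)) : Prop := σ ^ 3 = 1 ∧ σ ≠ 1

instance : DecidablePred Three := fun σ => inferInstanceAs (Decidable (σ ^ 3 = 1 ∧ σ ≠ 1))

theorem three_value : ∀ σ : Equiv.Perm (Fin 3),
    2 + ((Equiv.Perm.sign σ : ℤˣ) : ℤ) - ((Finset.univ.filter fun i => σ i = i).card : ℤ) =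
      if Three σ then 3 else 0 := by decide +kernel

theorem three_inv : ∀ σ : Equiv.Perm (Fin 3), Three σ → Three σ⁻¹ := by decide +kernel

theorem ratio {a b uA uB : ℂ} (ha : a ≠ 0) (hb : b ≠ 0) (h0 : 1 + a + b = 0) (h1 : 1 + uA + uB = 0) :
    1 + uA ^ 2 / a + uB ^ 2 / b = (a - uA) ^ 2 / (a * (a + 1)) := by
  have hb' : b = -(a + 1) := by linear_combination h0
  have hu : uB = -(uA + 1) := by linear_combination h1
  have ha1 : a + 1 ≠ 0 := fun h => hb (by rw [hb', h, neg_zero])
  rw [hb', hu]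
  field_simp
  ring

variable {G : Type*} [Group G] [Finite G]

/-- The order equation. -/
theorem order_equation (H : Subgroup G) (t : G) (ht : t * t = 1) (ht1 : t ≠ 1)
    (hH : H = Subgroup.centralizer {t}) (hcard : Nat.card H = 576)
    (hone : ∀ x : G, x * x = 1 → x ≠ 1 → IsConj t x)
    (θ : H →* Equiv.Perm (Fin 3)) (hθ : Function.Surjective θ)
    (hTI : ∀ x : H, Three (θ x) → ∀ g : G, ∀ hg : g * (x : G) * g⁻¹ ∈ H, Three (θ ⟨_, hg⟩) → g ∈ H)
    (hP : Nat.card {q : H × H // (q.1 * q.1 = 1 ∧ q.1 ≠ 1) ∧ (q.2 * q.2 = 1 ∧ q.2 ≠ 1) ∧ Three (θ (q.1 * q.2))} =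
      3456) :
    ∃ a u : ℤ, a ≠ 0 ∧ a ≠ -1 ∧ u ^ 2 + (u + 1) ^ 2 < 576 ∧
      (H.index : ℤ) * (a - u) ^ 2 = 10368 * a * (a + 1) := by
  classical
  haveI : Fintype G := Fintype.ofFinite G
  haveI : Fintype H := Fintype.ofFinite H
  haveI : Finite (IrrCharacter G) := finite_irrCharacter
  letI : MulAction H (Fin 3) := MulAction.compHom (Fin 3) θ
  haveI : MulAction.IsPretransitive H (Fin 3) := ⟨fun i j => by
    obtain ⟨g, hg⟩ := hθ (Equiv.swap i j)
    exact ⟨g, by show θ g i = j; rw [hg, Equiv.swap_apply_left]⟩⟩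
  let sgn : H →* ℂˣ := (Units.map ((Int.castRingHom ℂ).toMonoidHom)).comp (Equiv.Perm.sign.comp θ)
  let f : H → ℂ := fun n => 2 + (sgn n : ℂ) - (Nat.card (MulAction.fixedBy (Fin 3) n) : ℂ)
  have hgen : IsGeneralizedCharacter H f := by
    have h2 : IsCharacter H (fun _ : H => (2 : ℂ)) := by
      have := isCharacter_add (isCharacter_one (G := H)) (isCharacter_one (G := H))
      have e : ((fun _ : H => (1 : ℂ)) + fun _ => 1) = fun _ => 2 := funext fun _ => by
        simp [one_add_one_eq_two]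
      exact e ▸ this
    exact isGeneralized_sub (isGeneralized_of_isCharacter (isCharacter_add h2
      (isCharacter_monoidHom sgn))) (isGeneralized_of_isCharacter (isCharacter_perm (Fin 3)))
  have hfval : ∀ n : H, f n = if Three (θ n) then 3 else 0 := fun n => by
    have hfix : Nat.card (MulAction.fixedBy (Fin 3) n) = (Finset.univ.filter fun x => θ n x = x).card := by
      rw [← Fintype.card_subtype, ← Nat.card_eq_fintype_card]
      exact Nat.card_congr (Equiv.subtypeEquivRight fun x => Iff.rfl)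
    have e : f n = ((2 + ((Equiv.Perm.sign (θ n) : ℤˣ) : ℤ) -
        ((Finset.univ.filter fun x => θ n x = x).card : ℤ) : ℤ) : ℂ) := by
      simp only [f, hfix]
      push_cast
      rfl
    rw [e, three_value]
    split_ifs <;> norm_num
  let S : Set G := {x | ∃ hx : x ∈ H, Three (θ ⟨x, hx⟩)}
  have hsupp : ∀ n : H, (n : G) ∉ S → f n = 0 := fun n hn => by
    rw [hfval, if_neg fun h => hn ⟨n.2, h⟩]
  have hTI' : ∀ g : G, g ∉ H → ∀ x ∈ S, g * x * g⁻¹ ∈ S → x = 1 := by
    rintro g hg x ⟨hx, h3⟩ ⟨hgx, hgx3⟩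
    exact absurd (hTI ⟨x, hx⟩ h3 g hgx hgx3) hg
  have h1 : f 1 = 0 := by rw [hfval, if_neg fun h => h.2 (map_one θ)]
  have hone' : classInner f (fun _ => (1 : ℂ)) = 1 := by
    have hsum : ∑ n : H, (sgn n : ℂ) = 0 := by
      refine StrongReal.sum_hom_eq_zero sgn fun hs => ?_
      obtain ⟨g, hg⟩ := hθ (Equiv.swap 0 1)
      have := congrArg Units.val (DFunLike.congr_fun hs g)
      simp only [sgn, MonoidHom.comp_apply, MonoidHom.one_apply, Units.coe_map, Units.val_one, hg,
        Equiv.Perm.sign_swap (show (0 : Fin 3) ≠ 1 by decide)] at this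
      norm_num at this
    have hburn : ∑ n : H, (Nat.card (MulAction.fixedBy (Fin 3) n) : ℂ) = (Nat.card H : ℂ) := by
      have hb := MulAction.sum_card_fixedBy_eq_card_orbits_mul_card_group H (Fin 3)
      haveI : Subsingleton (Quotient (MulAction.orbitRel H (Fin 3))) :=
        (MulAction.pretransitive_iff_subsingleton_quotient H (Fin 3)).mp inferInstance
      have h1' : Fintype.card (Quotient (MulAction.orbitRel H (Fin 3))) = 1 :=
        Fintype.card_eq_one_iff.mpr ⟨Quotient.mk'' 0, fun q => Subsingleton.elim _ _⟩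
      have h2' : ∑ n : H, Nat.card (MulAction.fixedBy (Fin 3) n) = Nat.card H := by
        simp only [Nat.card_eq_fintype_card]
        rw [h1', one_mul] at hb
        exact hb
      exact_mod_cast h2'
    simp only [classInner, f, map_one, mul_one]
    rw [Finset.sum_sub_distrib, Finset.sum_add_distrib, hsum, hburn, Finset.sum_const,
      Finset.card_univ, nsmul_eq_mul, ← Nat.card_eq_fintype_card, add_zero]
    have : (Nat.card H : ℂ) ≠ 0 := Nat.cast_ne_zero.mpr Nat.card_pos.ne'
    field_simp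
    ring
  have hnorm : classInner f f = 3 := by
    have e : classInner f f = 3 * classInner f (fun _ => (1 : ℂ)) := by
      simp only [classInner, Finset.mul_sum]
      refine Finset.sum_congr rfl fun n _ => ?_
      rw [hfval]
      split_ifs <;> simp only [map_zero, map_ofNat, map_one] <;> ring
    rw [e, hone', mul_one]
  have hcl : IsClassFunction H f := isClassFunction_of_isGeneralized hgen
  obtain ⟨c, hc⟩ := isGeneralized_iff.mp (isGeneralized_indFun H hgen)
  have hrec : ∀ χ : IrrCharacter G, (c χ : ℂ) = classInner f (fun n : H => (χ : G → ℂ) n) := fun χ => by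
    rw [← frobenius_reciprocity H f (isClassFunction_irr χ), hc, classInner_sum_smul_irr]
  have hsq : ∑ χ : IrrCharacter G, c χ ^ 2 = 3 := by
    have e := classInner_indFun_of_ti H S hTI' f f hcl hsupp hsupp h1
    rw [hnorm, hc, sum_sq_coeff] at e
    exact_mod_cast e
  choose d hd0 hd using fun χ : IrrCharacter G => exists_nat_degree_irr χ.2
  choose w hw using fun χ : IrrCharacter G => NineTI.exists_int_of_sq (isCharacter_of_isIrr χ.2) ht
  have hd0' : ∀ χ, d χ ≠ 0 := fun χ e => irr_degree_ne_zero χ.2 (by rw [hd, e, Nat.cast_zero])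
  let one : IrrCharacter G := ⟨fun _ => 1, isIrrCharacter_one⟩
  have hc1 : c one = 1 := by
    have := hrec one
    rw [show (fun n : H => (one : G → ℂ) n) = (fun _ => (1 : ℂ)) from rfl, hone'] at this
    exact_mod_cast this
  have e1 : ∑ χ : IrrCharacter G, (c χ : ℂ) * (d χ : ℂ) = 0 := by
    have e := congrFun hc 1
    rw [indFun_one, h1, mul_zero, Finset.sum_apply] at e
    exact (Finset.sum_congr rfl fun χ _ => by rw [Pi.smul_apply, smul_eq_mul, hd]).trans e.symm
  have e2 : ∑ χ : IrrCharacter G, (c χ : ℂ) * (w χ : ℂ) = 0 := by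
    have hz : indFun H f t = 0 := by
      simp only [indFun]
      rw [Finset.sum_eq_zero fun x _ => ?_, mul_zero]
      by_cases hx : x⁻¹ * t * x ∈ H
      · rw [extendByZero_mem H f hx, hfval, if_neg]
        rintro ⟨h3, hne⟩
        refine hne ?_
        have h2 : θ ⟨_, hx⟩ ^ 2 = 1 := by
          rw [← map_pow, ← map_one θ]
          refine congrArg θ (Subtype.ext ?_)
          rw [Subgroup.coe_pow, pow_two, Subgroup.coe_one]
          calc x⁻¹ * t * x * (x⁻¹ * t * x) = x⁻¹ * (t * t) * x := by group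
            _ = 1 := by rw [ht]; group
        rw [pow_succ, h2, one_mul] at h3
        exact h3
      · exact extendByZero_notMem H f hx
    have e := congrFun hc t
    rw [hz, Finset.sum_apply] at e
    exact (Finset.sum_congr rfl fun χ _ => by rw [Pi.smul_apply, smul_eq_mul, hw]).trans e.symm
  -- the involution pairs with product in the support lie in `H`
  let Pr : H × H → Prop := fun q => (q.1 * q.1 = 1 ∧ q.1 ≠ 1) ∧ (q.2 * q.2 = 1 ∧ q.2 ≠ 1)
  have hinvH : ∀ x : G, IsConj t x → x * x = 1 ∧ x ≠ 1 := fun x hx => by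
    obtain ⟨g, rfl⟩ := isConj_iff.mp hx
    refine ⟨by rw [conj_mul, ht]; group, fun e => ht1 (conj_eq_one_iff.mp e)⟩
  have hpairs : ∀ n : H, Three (θ n) →
      Nat.card {p : G × G // IsConj t p.1 ∧ IsConj t p.2 ∧ p.1 * p.2 = (n : G)} =
        Nat.card {q : H × H // Pr q ∧ q.1 * q.2 = n} := by
    intro n hn
    have hmem : ∀ p : G × G, IsConj t p.1 → IsConj t p.2 → p.1 * p.2 = (n : G) → p.1 ∈ H ∧ p.2 ∈ H := by
      intro p hp1 hp2 e
      have u1 := (hinvH _ hp1).1
      have u2 := (hinvH _ hp2).1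
      have hi : p.1 * (n : G) * p.1⁻¹ = ((n : G))⁻¹ := by
        rw [← e, mul_inv_rev, inv_eq_of_mul_eq_one_right u1, inv_eq_of_mul_eq_one_right u2, ← mul_assoc p.1 p.1,
          u1, one_mul]
      have hg : p.1 ∈ H := hTI n hn p.1 (by rw [hi]; exact inv_mem n.2) (by
        rw [show (⟨_, _⟩ : H) = n⁻¹ from Subtype.ext hi, map_inv]; exact three_inv _ hn)
      exact ⟨hg, by rw [show p.2 = p.1⁻¹ * (n : G) by rw [← e, inv_mul_cancel_left]]; exact mul_mem (inv_mem hg) n.2⟩
    refine Nat.card_congr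
      { toFun := fun p => ⟨(⟨p.1.1, (hmem p.1 p.2.1 p.2.2.1 p.2.2.2).1⟩, ⟨p.1.2, (hmem p.1 p.2.1 p.2.2.1 p.2.2.2).2⟩),
          ⟨⟨Subtype.ext (hinvH _ p.2.1).1, fun e => (hinvH _ p.2.1).2 (congrArg Subtype.val e)⟩,
            ⟨Subtype.ext (hinvH _ p.2.2.1).1, fun e => (hinvH _ p.2.2.1).2 (congrArg Subtype.val e)⟩⟩,
          Subtype.ext p.2.2.2⟩
        invFun := fun q => ⟨(q.1.1.1, q.1.2.1),
          hone _ (congrArg Subtype.val q.2.1.1.1) (fun e => q.2.1.1.2 (Subtype.ext e)),
          hone _ (congrArg Subtype.val q.2.1.2.1) (fun e => q.2.1.2.2 (Subtype.ext e)), congrArg Subtype.val q.2.2⟩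
        left_inv := fun p => rfl
        right_inv := fun q => rfl }
  have hI : (Subgroup.centralizer ({t} : Set G)).index = H.index := by rw [hH]
  have hG : Nat.card G = 576 * H.index := by rw [← hcard]; exact H.card_mul_index.symm
  have hh : (H.index : ℂ) ≠ 0 := Nat.cast_ne_zero.mpr Subgroup.index_ne_zero_of_finite
  have e3 : (10368 : ℂ) = (H.index : ℂ) * ∑ χ : IrrCharacter G, (c χ : ℂ) * ((w χ : ℂ) ^ 2 / (d χ : ℂ)) := by
    have lhs : ∑ n : H, f n * (Nat.card {p : G × G // IsConj t p.1 ∧ IsConj t p.2 ∧ p.1 * p.2 = (n : G)} : ℂ) =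
        10368 := by
      have step : ∀ n : H, f n * (Nat.card {p : G × G // IsConj t p.1 ∧ IsConj t p.2 ∧ p.1 * p.2 = (n : G)} : ℂ) =
          3 * ((Finset.univ.filter fun q : H × H => (Pr q ∧ Three (θ (q.1 * q.2))) ∧ q.1 * q.2 = n).card : ℂ) := by
        intro n
        rw [hfval]
        by_cases hn : Three (θ n)
        · rw [if_pos hn, hpairs n hn, Nat.card_eq_fintype_card, Fintype.card_subtype]
          congr 3
          exact Finset.filter_congr fun q _ => ⟨fun h => ⟨⟨h.1, h.2 ▸ hn⟩, h.2⟩, fun h => ⟨h.1.1, h.2⟩⟩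
        · rw [if_neg hn, zero_mul, Finset.card_eq_zero.2 (Finset.filter_eq_empty_iff.2 fun q _ h => hn (by
            rw [← h.2]; exact h.1.2))]
          simp
      rw [Finset.sum_congr rfl fun n _ => step n, ← Finset.mul_sum, ← Nat.cast_sum]
      have hsum : ∑ n : H, (Finset.univ.filter fun q : H × H => (Pr q ∧ Three (θ (q.1 * q.2))) ∧ q.1 * q.2 = n).card =
          3456 := by
        rw [← hP, Nat.card_eq_fintype_card, Fintype.card_subtype]
        refine Eq.trans ?_ (Finset.card_eq_sum_card_fiberwise (f := fun q : H × H => q.1 * q.2) (t := Finset.univ)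
          (fun q _ => Finset.mem_univ _)).symm
        refine Finset.sum_congr rfl fun n _ => congrArg Finset.card ?_
        ext q
        simp only [Finset.mem_filter, Finset.mem_univ, true_and, Pr, and_assoc]
      rw [hsum]
      norm_num
    rw [← lhs]
    simp only [class_mult, hI, hG, hrec, classInner, hw, hd, Finset.mul_sum, Finset.sum_mul, hcard]
    rw [Finset.sum_comm]
    refine Finset.sum_congr rfl fun χ _ => Finset.sum_congr rfl fun n _ => ?_
    have : (d χ : ℂ) ≠ 0 := Nat.cast_ne_zero.mpr (hd0' χ)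
    push_cast
    field_simp
  let T := (Finset.univ : Finset (IrrCharacter G)).filter fun χ => c χ ≠ 0
  have hle : ∀ χ ∈ T, c χ ^ 2 = 1 := by
    intro χ hχ
    have h := (Finset.single_le_sum (f := fun x => c x ^ 2) (fun _ _ => sq_nonneg _)
      (Finset.mem_univ χ)).trans_eq hsq
    have hne := (Finset.mem_filter.mp hχ).2
    have : -1 ≤ c χ ∧ c χ ≤ 1 := ⟨by nlinarith, by nlinarith⟩
    rcases (by omega : c χ = 1 ∨ c χ = -1) with e | e <;> rw [e] <;> norm_num
  have hcard3 : T.card = 3 := by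
    have e : ∑ χ ∈ T, c χ ^ 2 = 3 := by
      rw [← hsq]
      exact Finset.sum_subset (Finset.subset_univ _) fun χ _ hχ => by
        have : c χ = 0 := by simpa [T] using hχ
        rw [this]; norm_num
    rw [Finset.sum_congr rfl hle, Finset.sum_const, nsmul_eq_mul, mul_one] at e
    exact_mod_cast e
  have hone_mem : one ∈ T := Finset.mem_filter.mpr ⟨Finset.mem_univ _, by rw [hc1]; norm_num⟩
  obtain ⟨A, B, hAB, he⟩ := Finset.card_eq_two.mp
    (show (T.erase one).card = 2 by rw [Finset.card_erase_of_mem hone_mem, hcard3])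
  have hA : A ≠ one ∧ A ∈ T := Finset.mem_erase.mp (he ▸ Finset.mem_insert_self A _)
  have hB : B ≠ one ∧ B ∈ T :=
    Finset.mem_erase.mp (he ▸ Finset.mem_insert_of_mem (Finset.mem_singleton_self B))
  have hT : T = {one, A, B} := by
    rw [← Finset.insert_erase hone_mem, he]
  have three : ∀ F : IrrCharacter G → ℂ, ∑ χ : IrrCharacter G, (c χ : ℂ) * F χ =
      F one + (c A : ℂ) * F A + (c B : ℂ) * F B := by
    intro F
    rw [← Finset.sum_subset (Finset.subset_univ T) (fun χ _ hχ => by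
      have : c χ = 0 := by simpa [T] using hχ
      rw [this, Int.cast_zero, zero_mul]), hT, Finset.sum_insert (by simp [hA.1.symm, hB.1.symm]),
      Finset.sum_pair hAB, hc1]
    push_cast; ring
  rw [three] at e1 e2 e3
  have hd1 : (d one : ℂ) = 1 := (hd one).symm
  have hw1 : (w one : ℂ) = 1 := (hw one).symm
  rw [hd1] at e1 e3
  rw [hw1] at e2 e3
  set a : ℤ := c A * d A with ha
  set u : ℤ := c A * w A with hu
  have hb : (c B * d B : ℤ) = -1 - a := by
    have : ((c B * d B : ℤ) : ℂ) = ((-1 - a : ℤ) : ℂ) := by rw [ha]; push_cast; linear_combination e1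
    exact_mod_cast this
  have hv : (c B * w B : ℤ) = -1 - u := by
    have : ((c B * w B : ℤ) : ℂ) = ((-1 - u : ℤ) : ℂ) := by rw [hu]; push_cast; linear_combination e2
    exact_mod_cast this
  have hca : c A ≠ 0 := (Finset.mem_filter.mp hA.2).2
  have hcb : c B ≠ 0 := (Finset.mem_filter.mp hB.2).2
  have ha0 : a ≠ 0 := mul_ne_zero hca (by exact_mod_cast hd0' A)
  have ha1 : a ≠ -1 := fun e => (mul_ne_zero hcb (by exact_mod_cast hd0' B : ((d B : ℤ) ≠ 0))) (by rw [hb, e]; rfl)
  refine ⟨a, u, ha0, ha1, ?_, ?_⟩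
  · have hcol := column_orthogonality t t
    rw [if_pos (IsConj.refl t), ← hH, hcard] at hcol
    have hreal : ∑ χ : IrrCharacter G, w χ ^ 2 = 576 := by
      have : ((∑ χ : IrrCharacter G, w χ ^ 2 : ℤ) : ℂ) = ((576 : ℕ) : ℂ) := by
        rw [← hcol]
        push_cast
        refine Finset.sum_congr rfl fun χ _ => ?_
        rw [hw χ, map_intCast, sq]
      exact_mod_cast this
    have hsub := Finset.sum_le_sum_of_subset_of_nonneg (f := fun χ => w χ ^ 2) (Finset.subset_univ T)
      (fun _ _ _ => sq_nonneg _)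
    rw [hreal, hT, Finset.sum_insert (by simp [hA.1.symm, hB.1.symm]), Finset.sum_pair hAB] at hsub
    have hw1' : w one = 1 := by exact_mod_cast hw1
    have hA2 := hle A hA.2
    have hB2 := hle B hB.2
    have eu : u ^ 2 = w A ^ 2 := by rw [hu, mul_pow, hA2, one_mul]
    have ev : (u + 1) ^ 2 = w B ^ 2 := by
      calc (u + 1) ^ 2 = (c B * w B) ^ 2 := by rw [hv]; ring
        _ = w B ^ 2 := by rw [mul_pow, hB2, one_mul]
    rw [hw1'] at hsub
    linarith
  · have hA2 : (c A : ℂ) ^ 2 = 1 := by exact_mod_cast hle A hA.2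
    have hB2 : (c B : ℂ) ^ 2 = 1 := by exact_mod_cast hle B hB.2
    have hdA : (d A : ℂ) ≠ 0 := Nat.cast_ne_zero.mpr (hd0' A)
    have hdB : (d B : ℂ) ≠ 0 := Nat.cast_ne_zero.mpr (hd0' B)
    have hcA : (c A : ℂ) ≠ 0 := Int.cast_ne_zero.mpr hca
    have hcB : (c B : ℂ) ≠ 0 := Int.cast_ne_zero.mpr hcb
    have sA : (c A : ℂ) * ((w A : ℂ) ^ 2 / (d A : ℂ)) = ((c A : ℂ) * w A) ^ 2 / ((c A : ℂ) * d A) := by
      field_simp
    have sB : (c B : ℂ) * ((w B : ℂ) ^ 2 / (d B : ℂ)) = ((c B : ℂ) * w B) ^ 2 / ((c B : ℂ) * d B) := by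
      field_simp
    rw [sA, sB, show (1 : ℂ) ^ 2 / 1 = 1 by norm_num,
      ratio (mul_ne_zero hcA hdA) (mul_ne_zero hcB hdB) e1 e2] at e3
    have hne : (c A : ℂ) * d A * ((c A : ℂ) * d A + 1) ≠ 0 := mul_ne_zero (mul_ne_zero hcA hdA) (by
      intro h; exact ha1 (by
        have : ((a : ℤ) : ℂ) = ((-1 : ℤ) : ℂ) := by rw [ha]; push_cast; linear_combination h
        exact_mod_cast this))
    rw [← mul_div_assoc, eq_div_iff hne] at e3
    have : (((H.index : ℤ) * (a - u) ^ 2 : ℤ) : ℂ) = ((10368 * a * (a + 1) : ℤ) : ℂ) := by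
      rw [ha, hu]; push_cast; linear_combination -e3
    exact_mod_cast this

/-- No such group has index congruent to `1` modulo `9`, divisible by seven and odd. -/
theorem false_of_degenerate (H : Subgroup G) (t : G) (ht : t * t = 1) (ht1 : t ≠ 1)
    (hH : H = Subgroup.centralizer {t}) (hcard : Nat.card H = 576)
    (hone : ∀ x : G, x * x = 1 → x ≠ 1 → IsConj t x)
    (θ : H →* Equiv.Perm (Fin 3)) (hθ : Function.Surjective θ)
    (hTI : ∀ x : H, Three (θ x) → ∀ g : G, ∀ hg : g * (x : G) * g⁻¹ ∈ H, Three (θ ⟨_, hg⟩) → g ∈ H)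
    (hP : Nat.card {q : H × H // (q.1 * q.1 = 1 ∧ q.1 ≠ 1) ∧ (q.2 * q.2 = 1 ∧ q.2 ≠ 1) ∧ Three (θ (q.1 * q.2))} =
      3456)
    (hcent : ∀ x : G, x ^ 3 = 1 → x ≠ 1 → Nat.card (Subgroup.centralizer {x}) ∣ 576)
    (hodd : H.index % 2 = 1) (h9 : H.index % 9 = 1) (h7 : H.index % 7 = 0) : False := by
  obtain ⟨a, u, ha, ha1, hu, heq⟩ := order_equation H t ht ht1 hH hcard hone θ hθ hTI hP
  have hG : Nat.card G = 576 * H.index := by rw [← hcard]; exact H.card_mul_index.symm
  have h := index_ne hG fun x hx1 hx => by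
    rcases hx with h2 | h3
    · rw [← card_centralizer_eq_of_isConj (hone x (by rw [← pow_two]; exact h2) hx1), ← hH, hcard]
    · exact hcent x h3 hx1
  rcases index_cases a u H.index ha ha1 hu hodd h9 h7 heq with e | e
  exacts [h.1 e, h.2 e]

end CfsgLib.GTwoTwoLocal
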