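import Cfsg.Agent.Lib.GTwoThreeLocal.Section
import Cfsg.Agent.Lib.SmallCent.FourFixed
import Cfsg.Agent.Lib.SmallTwo.CenterFixed

/-!
General lemmas for the 2-local recognition of `G₂(3)`: a four group on a group of odd order, the
decomposition along an isolated involution, and `GL(2,3)` from a faithful action on a section.
-/

set_option autoImplicit false
set_option linter.style.haveILetI false

namespace CfsgLib.GTwoTwoLocal

open Cfsg

variable {G : Type*} [Group G] [Finite G]

theorem card_cent_pair_le (R : Subgroup G) (t u : G) :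
    R ⊓ Subgroup.centralizer ({t, u} : Set G) ≤ R ⊓ Subgroup.centralizer ({t} : Set G) :=
  inf_le_inf_left _ (Subgroup.centralizer_le (by simp))

/-- The product formula when the four group fixes no nontrivial element. -/
theorem card_of_four {R : Subgroup G} (hR : Odd (Nat.card R)) {t u : G} (ht : t * t = 1)
    (hu : u * u = 1) (htu : Commute t u) (hnt : ∀ x ∈ R, t * x * t⁻¹ ∈ R)
    (hnu : ∀ x ∈ R, u * x * u⁻¹ ∈ R) (h : R ⊓ Subgroup.centralizer ({t, u} : Set G) = ⊥) :
    Nat.card R = Nat.card ↥(R ⊓ Subgroup.centralizer ({t} : Set G)) *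
      Nat.card ↥(R ⊓ Subgroup.centralizer ({u} : Set G)) *
      Nat.card ↥(R ⊓ Subgroup.centralizer ({t * u} : Set G)) := by
  have e := CfsgLib.SmallCent.four_product hR ht hu htu hnt hnu
  rwa [h, Subgroup.card_bot, one_pow, mul_one] at e

/-- A group of odd order on which a four group acts without fixed points of any involution is trivial. -/
theorem eq_bot_of_four {R : Subgroup G} (hR : Odd (Nat.card R)) {t u : G} (ht : t * t = 1)
    (hu : u * u = 1) (htu : Commute t u) (hnt : ∀ x ∈ R, t * x * t⁻¹ ∈ R)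
    (hnu : ∀ x ∈ R, u * x * u⁻¹ ∈ R) (h1 : R ⊓ Subgroup.centralizer ({t} : Set G) = ⊥)
    (h2 : R ⊓ Subgroup.centralizer ({u} : Set G) = ⊥)
    (h3 : R ⊓ Subgroup.centralizer ({t * u} : Set G) = ⊥) : R = ⊥ := by
  have h := card_of_four hR ht hu htu hnt hnu (le_bot_iff.1 ((card_cent_pair_le R t u).trans h1.le))
  rw [h1, h2, h3, Subgroup.card_bot] at h
  exact Subgroup.card_eq_one.1 (by simpa using h)

/-- A subgroup containing an isolated involution is its odd core times the centraliser. -/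
theorem exists_core_mul_cent {X : Subgroup G} {t : G} (ht : t * t = 1) (P : Sylow 2 X) (htX : t ∈ X)
    (htP : (⟨t, htX⟩ : X) ∈ (P : Subgroup X))
    (hiso : ∀ g : X, g * ⟨t, htX⟩ * g⁻¹ ∈ (P : Subgroup X) → g * ⟨t, htX⟩ * g⁻¹ = ⟨t, htX⟩)
    {g : G} (hg : g ∈ X) :
    ∃ o ∈ (oddCore X).map X.subtype, ∃ c ∈ X ⊓ Subgroup.centralizer ({t} : Set G), g = o * c := by
  have hfix : CfsgLib.SmallTwo.FixedByFusion (P : Subgroup X) (Subgroup.zpowers (⟨t, htX⟩ : X)) := by
    intro s hs k hk
    obtain ⟨n, rfl⟩ := Subgroup.mem_zpowers_iff.1 hs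
    have ht2 : (⟨t, htX⟩ : X) * ⟨t, htX⟩ = 1 := Subtype.ext ht
    rcases Int.emod_two_eq n with h | h
    · obtain ⟨m, rfl⟩ := Int.dvd_of_emod_eq_zero h
      rw [zpow_mul, zpow_two, ht2, one_zpow]
      group
    · obtain ⟨m, rfl⟩ : ∃ m, n = 2 * m + 1 := ⟨n / 2, by omega⟩
      rw [zpow_add_one, zpow_mul, zpow_two, ht2, one_zpow, one_mul] at hk ⊢
      exact hiso k hk
  obtain ⟨o, ho, c, hc, e⟩ := CfsgLib.SmallTwo.core_mul_centralizer_of_fixed P
    (Subgroup.zpowers_le.2 htP) hfix ⟨g, hg⟩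
  refine ⟨_, ⟨o, ho, rfl⟩, c, ⟨c.2, Subgroup.mem_centralizer_singleton_iff.2 ?_⟩, congrArg Subtype.val e⟩
  exact (congrArg Subtype.val (Subgroup.mem_centralizer_iff.1 hc _ (Subgroup.mem_zpowers _))).symm

/-- With a single involution in `C_X(t)`, the group `X` is its odd core times `C_X(t)`. -/
theorem exists_core_mul_cent_of_unique {X : Subgroup G} {t : G} (ht : t * t = 1) (hne : t ≠ 1)
    (htX : t ∈ X) (huniq : ∀ s ∈ X, Commute s t → s * s = 1 → s = 1 ∨ s = t) {g : G} (hg : g ∈ X) :
    ∃ o ∈ (oddCore X).map X.subtype, ∃ c ∈ X ⊓ Subgroup.centralizer ({t} : Set G), g = o * c := by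
  haveI : Fact (Nat.Prime 2) := ⟨Nat.prime_two⟩
  set t' : X := ⟨t, htX⟩
  have ht' : t' * t' = 1 := Subtype.ext ht
  have ho : orderOf t' = 2 :=
    orderOf_eq_prime (by rw [pow_two, ht']) fun h => hne (congrArg Subtype.val h)
  obtain ⟨P, hP⟩ := (IsPGroup.of_card (p := 2) (n := 1)
    (by rw [Nat.card_zpowers, ho, pow_one]) : IsPGroup 2 (Subgroup.zpowers t')).exists_le_sylow
  have htP : t' ∈ (P : Subgroup X) := hP (Subgroup.mem_zpowers _)
  haveI : Nontrivial (P : Subgroup X) := (Subgroup.nontrivial_iff_ne_bot _).2 fun h => by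
    rw [h, Subgroup.mem_bot] at htP
    exact hne (congrArg Subtype.val htP)
  haveI := P.isPGroup'.center_nontrivial
  haveI : Nontrivial (Subgroup.center (P : Subgroup X)) := inferInstance
  obtain ⟨n, hn, hcard⟩ := (P.isPGroup'.to_subgroup (Subgroup.center (P : Subgroup X))).nontrivial_iff_card.1
    inferInstance
  obtain ⟨⟨s, hs⟩, hso⟩ := exists_prime_orderOf_dvd_card' (G := Subgroup.center (P : Subgroup X)) 2
    (by rw [hcard]; exact dvd_pow_self 2 (by omega))
  rw [Subgroup.orderOf_mk] at hso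
  have hst : ((s : X) : G) = t := by
    refine (huniq _ (s : X).2 ?_ ?_).resolve_left fun h => ?_
    · exact (congrArg (fun z : (P : Subgroup X) => ((z : X) : G))
        (Subgroup.mem_center_iff.1 hs ⟨t', htP⟩)).symm
    · have h2 : s * s = 1 := by
        rw [← pow_two]; exact orderOf_dvd_iff_pow_eq_one.1 (by rw [hso])
      exact congrArg (fun z : (P : Subgroup X) => ((z : X) : G)) h2
    · have : s = 1 := Subtype.ext (Subtype.ext h)
      rw [this, orderOf_one] at hso
      omega
  refine exists_core_mul_cent ht P htX htP (fun k hk => Subtype.ext ?_) hg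
  refine (huniq _ (k * t' * k⁻¹).2 ?_ ?_).resolve_left fun h => ?_
  · have := congrArg (fun z : (P : Subgroup X) => ((z : X) : G)) (Subgroup.mem_center_iff.1 hs ⟨_, hk⟩)
    simp only [Subgroup.coe_mul] at this
    rw [hst] at this
    exact this
  · have : k * t' * k⁻¹ * (k * t' * k⁻¹) = 1 := by
      rw [show k * t' * k⁻¹ * (k * t' * k⁻¹) = k * (t' * t') * k⁻¹ by group, ht']
      group
    exact congrArg Subtype.val this
  · have : k * t' * k⁻¹ = 1 := Subtype.ext h
    rw [mul_inv_eq_one, mul_eq_left] at this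
    exact hne (congrArg Subtype.val this)

/-- Conjugation by a normaliser carries one fixed-point group to another. -/
theorem card_cent_conj {R : Subgroup G} {q u v : G} (hq : q ∈ Subgroup.normalizer (R : Set G))
    (he : q * u * q⁻¹ = v) :
    Nat.card ↥(R ⊓ Subgroup.centralizer ({u} : Set G)) = Nat.card ↥(R ⊓ Subgroup.centralizer ({v} : Set G)) := by
  have h : (R ⊓ Subgroup.centralizer ({u} : Set G)).map (MulAut.conj q).toMonoidHom =
      R ⊓ Subgroup.centralizer ({v} : Set G) := by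
    rw [Subgroup.map_inf _ _ _ (MulAut.conj q).injective]
    congr 1
    · exact Subgroup.mem_normalizer_iff_map_conj_eq.1 hq
    ext x
    rw [Subgroup.mem_map_equiv, Subgroup.mem_centralizer_singleton_iff, Subgroup.mem_centralizer_singleton_iff,
      MulAut.conj_symm_apply, ← he]
    constructor
    · intro h
      calc x * (q * u * q⁻¹) = q * (q⁻¹ * x * q * u) * q⁻¹ := by group
        _ = q * (u * (q⁻¹ * x * q)) * q⁻¹ := by rw [h]
        _ = _ := by group
    · intro h
      calc q⁻¹ * x * q * u = q⁻¹ * (x * (q * u * q⁻¹)) * q := by group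
        _ = q⁻¹ * (q * u * q⁻¹ * x) * q := by rw [h]
        _ = _ := by group
  rw [← h, Subgroup.card_map_of_injective (MulAut.conj q).injective]

omit [Finite G] in
/-- A faithful action on a section of order nine gives `GL(2,3)`. -/
theorem gl_iso {A Q Z D : Subgroup G} [(Q.subgroupOf A).Normal] (S : CfsgLib.GTwoLocal.Sec A Q Z D)
    {x y : G} (hx : x ∈ Z) (hy : y ∈ Z) (hxD : x ∉ D) (hind : ∀ n : ℕ, y * (x ^ n)⁻¹ ∉ D) :
    Nonempty (↥A ⧸ Q.subgroupOf A ≃* GL (Fin 2) (ZMod 3)) := by
  obtain ⟨ρ, κ, hC, -, -⟩ := S.exists_coord hx hy hxD hind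
  have hker : ρ.ker = Q.subgroupOf A := by
    ext a
    rw [MonoidHom.mem_ker, Subgroup.mem_subgroupOf]
    exact hC.ker a
  exact ⟨(QuotientGroup.quotientMulEquivOfEq hker.symm).trans
    (QuotientGroup.quotientKerEquivOfSurjective ρ hC.surj)⟩

end CfsgLib.GTwoTwoLocal
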