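import Cfsg.Agent.Lib.GTwoTwoLocal.CentThree
import Cfsg.Agent.Lib.SpinCent.CaseBCommon

/-!
A maximal parabolic of `G₂(3)`, read from the centraliser of an element `d` of order three: the
normaliser of `⟨d⟩` modulo its 3-core is `GL(2,3)`, acting faithfully on both sections.
-/

set_option autoImplicit false
set_option linter.style.haveILetI false
set_option linter.unusedSectionVars false

namespace CfsgLib.GTwoTwoLocal

open Cfsg

variable {G : Type*} [Group G] [Finite G]

/-- The data of a parabolic. -/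
structure Par (d t u : G) (S : Subgroup G) : Prop where
  cube : d ^ 3 = 1
  ne : d ≠ 1
  t_sq : t * t = 1
  card_core : Nat.card (coreCent d) = 243
  fix_t : coreCent d ⊓ Subgroup.centralizer ({t} : Set G) = Subgroup.zpowers d
  card_centre : Nat.card ↥(coreCent d ⊓ Subgroup.centralizer (coreCent d : Set G)) = 27
  derived : ⁅coreCent d, coreCent d⁆ = Subgroup.zpowers d
  S_le : S ≤ Subgroup.centralizer ({t, d} : Set G)
  card_S : Nat.card S = 24
  t_mem : t ∈ S
  small : ∀ L : Subgroup G, L ≤ S → (∀ s ∈ S, ∀ l ∈ L, s * l * s⁻¹ ∈ L) → t ∉ L → L = ⊥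
  nonab : ∃ a ∈ S, ∃ b ∈ S, a * b ≠ b * a
  u_d : u * d * u⁻¹ = d⁻¹
  comm_ut : Commute u t
  u_S : ∀ s ∈ S, u * s * u⁻¹ ∈ S
  outer : ∀ l ∈ S, ¬ ∀ s ∈ S, Commute (l * u) s
  decomp : ∀ g : G, Commute g d → ∃ o ∈ coreCent d, ∃ s ∈ S, g = o * s

namespace Par

variable {d t u : G} {S : Subgroup G} (P : Par d t u S)

/-- The parabolic. -/
abbrev para (d : G) : Subgroup G := Subgroup.normalizer (Subgroup.zpowers d : Set G)

/-- The centre of the core. -/
abbrev cen (d : G) : Subgroup G := coreCent d ⊓ Subgroup.centralizer (coreCent d : Set G)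

include P

theorem S_comm {s : G} (hs : s ∈ S) : Commute s d ∧ Commute s t := by
  have h := Subgroup.mem_centralizer_iff.1 (P.S_le hs)
  simp only [Set.mem_insert_iff, Set.mem_singleton_iff, forall_eq_or_imp, forall_eq] at h
  exact ⟨h.2.symm, h.1.symm⟩

theorem conj_d {g : G} : g ∈ para d ↔ g * d * g⁻¹ = d ∨ g * d * g⁻¹ = d⁻¹ := by
  constructor
  · intro hg
    obtain ⟨k, hk⟩ := Subgroup.mem_zpowers_iff.1
      ((Subgroup.mem_normalizer_iff.1 hg d).1 (Subgroup.mem_zpowers d))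
    have hne : g * d * g⁻¹ ≠ 1 := fun h => P.ne (by rwa [mul_inv_eq_one, mul_eq_left] at h)
    have h : d ^ k = d ^ (k % 3) := by
      conv_lhs => rw [← Int.emod_add_mul_ediv k 3]
      rw [zpow_add, zpow_mul, show (3 : ℤ) = ((3 : ℕ) : ℤ) from rfl, zpow_natCast, P.cube, one_zpow, mul_one]
    rcases (by omega : k % 3 = 0 ∨ k % 3 = 1 ∨ k % 3 = 2) with e | e | e <;> rw [h, e] at hk
    · exact absurd (by rw [← hk, zpow_zero]) hne
    · exact Or.inl (by rw [← hk, zpow_one])
    · refine Or.inr ?_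
      rw [← hk]
      refine eq_inv_of_mul_eq_one_left ?_
      rw [← zpow_add_one, show ((2 : ℤ) + 1) = ((3 : ℕ) : ℤ) from rfl, zpow_natCast, P.cube]
  · intro h
    rw [Subgroup.mem_normalizer_iff_map_conj_eq, MonoidHom.map_zpowers]
    show Subgroup.zpowers (g * d * g⁻¹) = _
    rcases h with h | h <;> rw [h]
    rw [Subgroup.zpowers_inv]

theorem S_le_para : S ≤ para d := fun s hs =>
  (P.conj_d).2 (Or.inl (by rw [(P.S_comm hs).1.eq, mul_inv_cancel_right]))

theorem u_mem : u ∈ para d := (P.conj_d).2 (Or.inr P.u_d)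

theorem core_comm {x : G} (hx : x ∈ coreCent d) : Commute x d :=
  Subgroup.mem_centralizer_singleton_iff.1 (coreCent_le d hx)

theorem core_le_para : coreCent d ≤ para d := fun x hx =>
  (P.conj_d).2 (Or.inl (by rw [(P.core_comm hx).eq, mul_inv_cancel_right]))

theorem conj_core {a x : G} (ha : a ∈ para d) (hx : x ∈ coreCent d) : a * x * a⁻¹ ∈ coreCent d :=
  conj_mem_coreCent ((P.conj_d).1 ha) hx

theorem isPGroup_core : IsPGroup 3 (coreCent d) :=
  IsPGroup.of_card (n := 5) (by rw [P.card_core]; norm_num)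

theorem t_mem_para : t ∈ para d := P.S_le_para P.t_mem

theorem ne_t : t ≠ 1 := by
  intro h
  have := P.small S le_rfl (fun s hs l hl => mul_mem (mul_mem hs hl) (inv_mem hs))
  obtain ⟨a, ha, b, hb, hab⟩ := P.nonab
  have hfix := P.fix_t
  rw [h, Subgroup.centralizer_eq_top_iff_subset.2 (by simp)] at hfix
  have := congrArg (fun K : Subgroup G => Nat.card K) hfix
  simp only [inf_top_eq, P.card_core, Nat.card_zpowers, orderOf_eq_prime P.cube P.ne] at this
  omega

theorem S_inf_core {s : G} (hs : s ∈ S) (hq : s ∈ coreCent d) : s = 1 := by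
  have h : S ⊓ coreCent d = ⊥ := by
    refine P.small _ inf_le_left (fun a ha l hl => ⟨S.mul_mem (S.mul_mem ha hl.1) (S.inv_mem ha),
      P.conj_core (P.S_le_para ha) hl.2⟩) fun ht => ?_
    have h2 : orderOf t = 2 := orderOf_eq_prime (by rw [pow_two, P.t_sq]) P.ne_t
    have := Subgroup.orderOf_dvd_natCard _ (Subgroup.mem_inf.1 ht).2
    rw [h2, P.card_core] at this
    omega
  exact (Subgroup.eq_bot_iff_forall _).1 h s ⟨hs, hq⟩

theorem decomp_para {g : G} (hg : g ∈ para d) :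
    ∃ o ∈ coreCent d, ∃ s ∈ S, g = o * s ∨ g = o * (s * u) := by
  rcases (P.conj_d).1 hg with h | h
  · obtain ⟨o, ho, s, hs, e⟩ := P.decomp g (mul_inv_eq_iff_eq_mul.1 h)
    exact ⟨o, ho, s, hs, Or.inl e⟩
  · have hc : Commute (g * u⁻¹) d := by
      refine mul_inv_eq_iff_eq_mul.1 ?_
      have hu : u⁻¹ * d * u = d⁻¹ := by
        have h1 : u * d⁻¹ * u⁻¹ = d := by rw [← conj_inv, P.u_d, inv_inv]
        calc u⁻¹ * d * u = u⁻¹ * (u * d⁻¹ * u⁻¹) * u := by rw [h1]
          _ = d⁻¹ := by group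
      calc g * u⁻¹ * d * (g * u⁻¹)⁻¹ = g * (u⁻¹ * d * u) * g⁻¹ := by group
        _ = (g * d * g⁻¹)⁻¹ := by rw [hu, conj_inv]
        _ = d := by rw [h, inv_inv]
    obtain ⟨o, ho, s, hs, e⟩ := P.decomp _ hc
    exact ⟨o, ho, s, hs, Or.inr (by rw [← mul_assoc, ← e, inv_mul_cancel_right])⟩

theorem index_core : ((coreCent d).subgroupOf (para d)).index = 48 := by
  classical
  let f : S × Bool → ↥(para d) ⧸ (coreCent d).subgroupOf (para d) := fun v =>
    QuotientGroup.mk (if v.2 then (⟨v.1, P.S_le_para v.1.2⟩ * ⟨u, P.u_mem⟩ : ↥(para d))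
      else ⟨v.1, P.S_le_para v.1.2⟩)
  haveI hn : ((coreCent d).subgroupOf (para d)).Normal := ⟨fun x hx a => P.conj_core a.2 hx⟩
  have hf : Function.Bijective f := by
    refine ⟨?_, fun y => ?_⟩
    · rintro ⟨⟨s, hs⟩, b⟩ ⟨⟨s', hs'⟩, b'⟩ e
      have e' := QuotientGroup.eq.1 e
      rw [Subgroup.mem_subgroupOf] at e'
      have hu : ¬ Commute u d := fun h => by
        have h' := P.u_d
        rw [h.eq, mul_inv_cancel_right, eq_inv_iff_mul_eq_one] at h'
        exact P.ne (by have := P.cube; rwa [pow_succ, pow_two, h', one_mul] at this)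
      have hc := P.core_comm e'
      have hsd := (P.S_comm hs).1
      have hsd' := (P.S_comm hs').1
      cases b <;> cases b' <;> simp only [Bool.false_eq_true, if_false, if_true, Subgroup.coe_mul,
        InvMemClass.coe_inv] at e' hc ⊢
      · have := P.S_inf_core (mul_mem (inv_mem hs) hs') e'
        rw [inv_mul_eq_one] at this
        subst this
        rfl
      · exfalso
        refine hu ?_
        have := (hsd'.inv_left.mul_left hsd).mul_left hc
        simpa [mul_assoc] using this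
      · exfalso
        refine hu ?_
        have hsu : Commute (s * u) d := by
          have h := hsd'.mul_left hc.inv_left
          have e1 : s' * ((s * u)⁻¹ * s')⁻¹ = s * u := by group
          rwa [e1] at h
        have := hsd.inv_left.mul_left hsu
        rwa [inv_mul_cancel_left] at this
      · have he : u⁻¹ * (s⁻¹ * s') * u ∈ coreCent d := by simpa [mul_assoc] using e'
        have := P.S_inf_core (mul_mem (inv_mem hs) hs') (by
          have h2 := P.conj_core P.u_mem he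
          simpa [mul_assoc] using h2)
        rw [inv_mul_eq_one] at this
        subst this
        rfl
    · obtain ⟨g, rfl⟩ := QuotientGroup.mk_surjective y
      obtain ⟨o, ho, s, hs, e⟩ := P.decomp_para g.2
      rcases e with e | e
      · refine ⟨(⟨s, hs⟩, false), QuotientGroup.eq.2 (Subgroup.mem_subgroupOf.2 ?_)⟩
        simp only [Bool.false_eq_true, if_false, Subgroup.coe_mul, InvMemClass.coe_inv, e]
        simpa [mul_assoc] using P.conj_core (inv_mem (P.S_le_para hs)) ho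
      · refine ⟨(⟨s, hs⟩, true), QuotientGroup.eq.2 (Subgroup.mem_subgroupOf.2 ?_)⟩
        simp only [if_true, Subgroup.coe_mul, InvMemClass.coe_inv, e]
        simpa [mul_assoc] using P.conj_core (inv_mem (mul_mem (P.S_le_para hs) P.u_mem)) ho
  rw [Subgroup.index_eq_card, ← Nat.card_congr (Equiv.ofBijective f hf), Nat.card_prod, P.card_S]
  simp

theorem card_para : Nat.card (para d) = 11664 := by
  have h := Subgroup.card_mul_index ((coreCent d).subgroupOf (para d))
  rw [Nat.card_congr (Subgroup.subgroupOfEquivOfLe P.core_le_para).toEquiv, P.card_core, P.index_core] at h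
  omega

/-- A normal subgroup of the parabolic without `t` modulo the core lies in the core. -/
theorem le_core {L : Subgroup G} (hL : L ≤ para d) (hn : ∀ a ∈ para d, ∀ l ∈ L, a * l * a⁻¹ ∈ L)
    (hQ : coreCent d ≤ L) (ht : t ∉ L) : L ≤ coreCent d := by
  have hS : S ⊓ L = ⊥ := P.small _ inf_le_left (fun a ha l hl =>
    ⟨S.mul_mem (S.mul_mem ha hl.1) (S.inv_mem ha), hn a (P.S_le_para ha) l hl.2⟩) fun h => ht h.2
  intro x hx
  obtain ⟨o, ho, s, hs, e⟩ := P.decomp_para (hL hx)
  rcases e with e | e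
  · have : s ∈ L := by
      have := mul_mem (inv_mem (hQ ho)) hx
      rwa [e, inv_mul_cancel_left] at this
    rw [e, (Subgroup.eq_bot_iff_forall _).1 hS s ⟨hs, this⟩, mul_one]
    exact ho
  · exfalso
    have hl : s * u ∈ L := by
      have := mul_mem (inv_mem (hQ ho)) hx
      rwa [e, inv_mul_cancel_left] at this
    refine P.outer s hs fun r hr => ?_
    have h1 : s * u * r * (s * u)⁻¹ * r⁻¹ ∈ L := by
      have := mul_mem hl (hn r (P.S_le_para hr) _ (inv_mem hl))
      simpa [mul_assoc] using this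
    have h2 : s * u * r * (s * u)⁻¹ * r⁻¹ ∈ S := by
      rw [show s * u * r * (s * u)⁻¹ = s * (u * r * u⁻¹) * s⁻¹ by group]
      exact mul_mem (mul_mem (mul_mem hs (P.u_S r hr)) (inv_mem hs)) (inv_mem hr)
    have h3 := (Subgroup.eq_bot_iff_forall _).1 hS _ ⟨h2, h1⟩
    rw [mul_inv_eq_one, mul_inv_eq_iff_eq_mul] at h3
    exact h3

/-- A normal 3-subgroup of the parabolic lies in the core. -/
theorem le_core_of_pgroup {L : Subgroup G} (hL : L ≤ para d)
    (hn : ∀ a ∈ para d, ∀ l ∈ L, a * l * a⁻¹ ∈ L) (hp : IsPGroup 3 L) : L ≤ coreCent d := by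
  haveI : Fact (Nat.Prime 3) := ⟨Nat.prime_three⟩
  have hQn : L ≤ Subgroup.normalizer (coreCent d : Set G) := fun l hl =>
    mem_normalizer_coreCent ((P.conj_d).1 (hL hl))
  have hsup : IsPGroup 3 ↥(L ⊔ coreCent d) := IsPGroup.to_sup_of_normal_right' hp P.isPGroup_core hQn
  refine le_sup_left.trans (P.le_core (sup_le hL P.core_le_para) ?_ le_sup_right ?_)
  · intro a ha x hx
    have hle : L ⊔ coreCent d ≤ (L ⊔ coreCent d).comap (MulAut.conj a).toMonoidHom :=
      sup_le (fun l hl => Subgroup.mem_sup_left (hn a ha l hl))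
        (fun q hq => Subgroup.mem_sup_right (P.conj_core ha hq))
    exact hle hx
  · intro ht
    obtain ⟨k, hk⟩ := hsup ⟨t, ht⟩
    have h2 : orderOf t = 2 := orderOf_eq_prime (by rw [pow_two, P.t_sq]) P.ne_t
    have := orderOf_dvd_of_pow_eq_one (congrArg Subtype.val hk : t ^ 3 ^ k = 1)
    rw [h2] at this
    have := Nat.prime_two.dvd_of_dvd_pow this
    omega

theorem cen_le : cen d ≤ coreCent d := inf_le_left

theorem d_mem_cen : d ∈ cen d :=
  ⟨mem_coreCent_self P.cube, Subgroup.mem_centralizer_iff.2 fun _ hx => P.core_comm hx⟩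

theorem zpowers_le_cen : Subgroup.zpowers d ≤ cen d := Subgroup.zpowers_le.2 P.d_mem_cen

theorem conj_cen {a x : G} (ha : a ∈ para d) (hx : x ∈ cen d) : a * x * a⁻¹ ∈ cen d := by
  refine ⟨P.conj_core ha hx.1, Subgroup.mem_centralizer_iff.2 fun q hq => ?_⟩
  have h := Subgroup.mem_centralizer_iff.1 hx.2 _ (P.conj_core (inv_mem ha) hq)
  rw [inv_inv] at h
  calc q * (a * x * a⁻¹) = a * (a⁻¹ * q * a * x) * a⁻¹ := by group
    _ = a * (x * (a⁻¹ * q * a)) * a⁻¹ := by rw [h]
    _ = a * x * a⁻¹ * q := by group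

theorem conj_zpowers {a x : G} (ha : a ∈ para d) (hx : x ∈ Subgroup.zpowers d) :
    a * x * a⁻¹ ∈ Subgroup.zpowers d :=
  (Subgroup.mem_normalizer_iff.1 ha x).1 hx

theorem card_zpowers_d : Nat.card (Subgroup.zpowers d) = 3 := by
  rw [Nat.card_zpowers, orderOf_eq_prime P.cube P.ne]

theorem index_cen : ((cen d).subgroupOf (coreCent d)).index = 9 := by
  have h := Subgroup.card_mul_index ((cen d).subgroupOf (coreCent d))
  rw [Nat.card_congr (Subgroup.subgroupOfEquivOfLe P.cen_le).toEquiv, P.card_centre, P.card_core] at h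
  omega

theorem index_zpowers : ((Subgroup.zpowers d).subgroupOf (cen d)).index = 9 := by
  have h := Subgroup.card_mul_index ((Subgroup.zpowers d).subgroupOf (cen d))
  rw [Nat.card_congr (Subgroup.subgroupOfEquivOfLe P.zpowers_le_cen).toEquiv, P.card_centre,
    P.card_zpowers_d] at h
  omega

theorem comm_mem_zpowers {a b : G} (ha : a ∈ coreCent d) (hb : b ∈ coreCent d) :
    a * b * a⁻¹ * b⁻¹ ∈ Subgroup.zpowers d := by
  rw [← P.derived, ← commutatorElement_def]
  exact Subgroup.commutator_mem_commutator ha hb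

/-- The kernel on a section between `⟨d⟩` and the core is the core. -/
theorem kernel {Z D : Subgroup G} (hDZ : D ≤ Z) (hZQ : Z ≤ coreCent d) (hdD : d ∈ D) (hne : ¬ Z ≤ D)
    (hZn : ∀ a ∈ para d, ∀ z ∈ Z, a * z * a⁻¹ ∈ Z) (hDn : ∀ a ∈ para d, ∀ z ∈ D, a * z * a⁻¹ ∈ D)
    (hQ : ∀ q ∈ coreCent d, ∀ z ∈ Z, q * z * q⁻¹ * z⁻¹ ∈ D) {a : G} (ha : a ∈ para d) :
    a ∈ coreCent d ↔ ∀ z ∈ Z, a * z * a⁻¹ * z⁻¹ ∈ D := by
  refine ⟨fun h => hQ a h, fun h => ?_⟩
  let L : Subgroup G :=
    { carrier := {g | g ∈ para d ∧ ∀ z ∈ Z, g * z * g⁻¹ * z⁻¹ ∈ D}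
      one_mem' := ⟨one_mem _, fun z _ => by simp⟩
      mul_mem' := fun {g g'} hg hg' => ⟨mul_mem hg.1 hg'.1, fun z hz => by
        rw [show g * g' * z * (g * g')⁻¹ * z⁻¹ =
          g * (g' * z * g'⁻¹) * g⁻¹ * (g' * z * g'⁻¹)⁻¹ * (g' * z * g'⁻¹ * z⁻¹) by group]
        exact mul_mem (hg.2 _ (hZn _ hg'.1 z hz)) (hg'.2 z hz)⟩
      inv_mem' := fun {g} hg => ⟨inv_mem hg.1, fun z hz => by
        rw [show g⁻¹ * z * g⁻¹⁻¹ * z⁻¹ = (g * (g⁻¹ * z * g) * g⁻¹ * (g⁻¹ * z * g)⁻¹)⁻¹ by group]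
        exact inv_mem (hg.2 _ (by simpa using hZn _ (inv_mem hg.1) z hz))⟩ }
  have hLn : ∀ b ∈ para d, ∀ l ∈ L, b * l * b⁻¹ ∈ L := by
    intro b hb l hl
    refine ⟨mul_mem (mul_mem hb hl.1) (inv_mem hb), fun z hz => ?_⟩
    rw [show b * l * b⁻¹ * z * (b * l * b⁻¹)⁻¹ * z⁻¹ =
      b * (l * (b⁻¹ * z * b) * l⁻¹ * (b⁻¹ * z * b)⁻¹) * b⁻¹ by group]
    exact hDn _ hb _ (hl.2 _ (by simpa using hZn _ (inv_mem hb) z hz))
  refine P.le_core (fun g (hg : g ∈ L) => hg.1) hLn (fun q hq => ⟨P.core_le_para hq, fun z hz => hQ q hq z hz⟩)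
    (fun ht => hne fun z hz => ?_) ⟨ha, h⟩
  obtain ⟨f, hf, hft, i, hi, hti, e⟩ := CfsgLib.SpinCent.exists_fixed_mul_inverted
    ((odd_coreCent d).of_dvd_nat (Subgroup.card_dvd_of_le hZQ)) P.t_sq (fun g hg => hZn t P.t_mem_para g hg) hz
  have hfD : f ∈ D := Subgroup.zpowers_le.2 hdD
    (P.fix_t.le ⟨hZQ hf, Subgroup.mem_centralizer_singleton_iff.2 hft⟩)
  have h2 := ht.2 i hi
  rw [hti] at h2
  have hiD : i ∈ D := by
    have h5 : orderOf i ∣ 3 ^ 5 := by
      rw [show (3 : ℕ) ^ 5 = 243 by norm_num, ← P.card_core]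
      exact Subgroup.orderOf_dvd_natCard _ (hZQ hi)
    have e243 : i ^ 243 = 1 := orderOf_dvd_iff_pow_eq_one.1 (by simpa using h5)
    have e' : i = (i⁻¹ * i⁻¹) ^ 121 := by
      rw [← pow_two, ← pow_mul, inv_pow]
      refine eq_inv_of_mul_eq_one_left ?_
      rw [← pow_succ']
      exact e243
    rw [e']
    exact pow_mem h2 121
  rw [e]
  exact mul_mem hfD hiD

theorem sec_centre : CfsgLib.GTwoLocal.Sec (para d) (coreCent d) (cen d) (Subgroup.zpowers d) where
  le := P.zpowers_le_cen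
  leA := P.cen_le.trans P.core_le_para
  normZ _ ha _ hz := P.conj_cen ha hz
  normD _ ha _ hz := P.conj_zpowers ha hz
  idx := P.index_zpowers
  kerQ a ha := P.kernel P.zpowers_le_cen P.cen_le (Subgroup.mem_zpowers d) (fun h => by
      have := Subgroup.card_dvd_of_le h
      rw [P.card_centre, P.card_zpowers_d] at this
      omega)
    (fun _ hb _ hz => P.conj_cen hb hz) (fun _ hb _ hz => P.conj_zpowers hb hz)
    (fun q hq z hz => by
      rw [Subgroup.mem_centralizer_iff.1 hz.2 q hq, mul_inv_cancel_right, mul_inv_cancel]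
      exact one_mem _) ha
  card48 := P.index_core
  nonab := by
    obtain ⟨a, ha, b, hb, hab⟩ := P.nonab
    refine ⟨a, P.S_le_para ha, b, P.S_le_para hb, fun h => hab ?_⟩
    exact mul_inv_eq_one.1 (P.S_inf_core (mul_mem (mul_mem ha hb) (inv_mem (mul_mem hb ha))) h)

theorem sec_core : CfsgLib.GTwoLocal.Sec (para d) (coreCent d) (coreCent d) (cen d) where
  le := P.cen_le
  leA := P.core_le_para
  normZ _ ha _ hz := P.conj_core ha hz
  normD _ ha _ hz := P.conj_cen ha hz
  idx := P.index_cen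
  kerQ a ha := P.kernel P.cen_le le_rfl P.d_mem_cen (fun h => by
      have := Subgroup.card_dvd_of_le h
      rw [P.card_centre, P.card_core] at this
      omega)
    (fun _ hb _ hz => P.conj_core hb hz) (fun _ hb _ hz => P.conj_cen hb hz)
    (fun q hq z hz => P.zpowers_le_cen (P.comm_mem_zpowers hq hz)) ha
  card48 := P.index_core
  nonab := P.sec_centre.nonab

end Par

end CfsgLib.GTwoTwoLocal
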